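import Cfsg.Agent.Lib.KnownC.G2Three.Data

/-!
The computations on the tables for `G₂(3)`.
-/

set_option autoImplicit false

namespace CfsgLib.KnownC.G2Three

open Matrix

/-- The combination of the powers `P` with the coefficients `c`. -/
def comb (P : List (List (List ℕ))) (c : List ℕ) (i j : Fin 7) : ℕ :=
  c.getD 0 0 * rd (P.getD 0 []) i j + c.getD 1 0 * rd (P.getD 1 []) i j + c.getD 2 0 * rd (P.getD 2 []) i j +
    c.getD 3 0 * rd (P.getD 3 []) i j + c.getD 4 0 * rd (P.getD 4 []) i j + c.getD 5 0 * rd (P.getD 5 []) i j +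
    c.getD 6 0 * rd (P.getD 6 []) i j

/-- Is the form preserved at the columns `T`? -/
def test (T : List (Fin 7 × Fin 7 × Fin 7)) (M : Fin 7 → Fin 7 → ℕ) : Bool :=
  T.all fun t => triVal L M t.1 t.2.1 t.2.2 % 3 == triVal L (rd oneT) t.1 t.2.1 t.2.2 % 3

theorem oneT_eq : castM oneT = 1 := by decide +kernel

theorem gen_preserves : ∀ k : Fin 36, ∀ a b c : Fin 7,
    triVal L (rd (genTab.getD k [])) a b c % 3 = triVal L (rd oneT) a b c % 3 := by decide +kernel

theorem seven_cases : ∀ a b c d e f g : Fin 3,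
    test sevenTri (comb sevenPow [a, b, c, d, e, f, g]) = true →
      ([a, b, c, d, e, f, g] : List ℕ) ∈ sevenCoef := by decide +kernel

theorem thirteen_cases : ∀ a b c d e f g : Fin 3,
    test thirteenTri (comb thirteenPow [a, b, c, d, e, f, g]) = true →
      ([a, b, c, d, e, f, g] : List ℕ) ∈ thirteenCoef := by decide +kernel

end CfsgLib.KnownC.G2Three
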