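import Mathlib.Data.ZMod.Basic
import Mathlib.Data.Matrix.Mul
import Mathlib.LinearAlgebra.Matrix.Notation
import Mathlib.Tactic

/-!
Trilinear forms given by a list of terms, and the commutant of a matrix with a cyclic vector.
-/

set_option autoImplicit false

namespace CfsgLib.KnownC.G2Three

open Matrix

variable {R : Type*} [CommSemiring R] {n : ℕ}

/-- The value at three columns of `M` of the trilinear form with the terms `L`. -/
def triVal (L : List (ℕ × Fin n × Fin n × Fin n)) (M : Fin n → Fin n → R) (a b c : Fin n) : R :=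
  (L.map fun t => (t.1 : R) * M t.2.1 a * M t.2.2.1 b * M t.2.2.2 c).sum

theorem triVal_map {S : Type*} [CommSemiring S] (f : R →+* S) (L : List (ℕ × Fin n × Fin n × Fin n))
    (M : Fin n → Fin n → R) (a b c : Fin n) :
    triVal L (fun i j => f (M i j)) a b c = f (triVal L M a b c) := by
  induction L with
  | nil => simp [triVal]
  | cons t L ih =>
    simp only [triVal, List.map_cons, List.sum_cons] at ih ⊢
    rw [map_add, ← ih]
    simp

theorem triVal_mul (L : List (ℕ × Fin n × Fin n × Fin n)) (M N : Matrix (Fin n) (Fin n) R) (a b c : Fin n) :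
    triVal L (M * N : Matrix (Fin n) (Fin n) R) a b c =
      ∑ d, ∑ e, ∑ f, N d a * N e b * N f c * triVal L M d e f := by
  induction L with
  | nil => simp [triVal]
  | cons t L ih =>
    simp only [triVal, List.map_cons, List.sum_cons] at ih ⊢
    rw [ih]
    simp only [mul_add, Finset.sum_add_distrib]
    congr 1
    simp only [Matrix.mul_apply, Finset.mul_sum, Finset.sum_mul]
    rw [Finset.sum_comm]
    conv_lhs => enter [2, d]; rw [Finset.sum_comm]
    conv_lhs => rw [Finset.sum_comm]
    exact Finset.sum_congr rfl fun d _ => Finset.sum_congr rfl fun e _ => Finset.sum_congr rfl fun f _ => by ring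

/-- `M` preserves the form with the terms `L`. -/
def Preserves (L : List (ℕ × Fin n × Fin n × Fin n)) (M : Matrix (Fin n) (Fin n) R) : Prop :=
  ∀ a b c, triVal L M a b c = triVal L (1 : Matrix (Fin n) (Fin n) R) a b c

theorem preserves_one (L : List (ℕ × Fin n × Fin n × Fin n)) : Preserves L (1 : Matrix (Fin n) (Fin n) R) :=
  fun _ _ _ => rfl

theorem Preserves.mul {L : List (ℕ × Fin n × Fin n × Fin n)} {M N : Matrix (Fin n) (Fin n) R}
    (hM : Preserves L M) (hN : Preserves L N) : Preserves L (M * N) := fun a b c => by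
  rw [triVal_mul, ← hN a b c]
  conv_rhs => rw [← one_mul N, triVal_mul]
  simp only [hM _ _ _]

/-- A matrix commuting with `X` is a polynomial in `X`, when the iterates of a vector under `X` form a basis. -/
theorem commutant {X A K Kinv : Matrix (Fin n) (Fin n) R} (e : Fin n → R)
    (hK : ∀ i t : Fin n, K i t = (X ^ (t : ℕ) *ᵥ e) i) (hKK : K * Kinv = 1) (hA : A * X = X * A) :
    A = ∑ t : Fin n, (Kinv *ᵥ (A *ᵥ e)) t • X ^ (t : ℕ) := by
  set B := ∑ t : Fin n, (Kinv *ᵥ (A *ᵥ e)) t • X ^ (t : ℕ) with hB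
  have hKc : ∀ c : Fin n → R, K *ᵥ c = (∑ t : Fin n, c t • X ^ (t : ℕ)) *ᵥ e := by
    intro c
    rw [sum_mulVec]
    funext i
    simp only [smul_mulVec, Matrix.mulVec, dotProduct, Finset.sum_apply, Pi.smul_apply, smul_eq_mul]
    refine Finset.sum_congr rfl fun t _ => ?_
    rw [hK, mul_comm]
    rfl
  have hBe : B *ᵥ e = A *ᵥ e := by
    rw [hB, ← hKc, mulVec_mulVec, hKK, one_mulVec]
  have hBX : Commute B X :=
    Commute.sum_left _ _ _ fun t _ => ((Commute.refl X).pow_left (t : ℕ)).smul_left _
  have hcol : ∀ {C : Matrix (Fin n) (Fin n) R}, Commute C X → ∀ k : ℕ,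
      C *ᵥ (X ^ k *ᵥ e) = X ^ k *ᵥ (C *ᵥ e) := fun hC k => by
    rw [mulVec_mulVec, mulVec_mulVec, (hC.pow_right k).eq]
  have key : A * K = B * K := by
    ext i t
    have h1 := congrFun (hcol (C := A) hA (t : ℕ)) i
    have h2 := congrFun (hcol hBX (t : ℕ)) i
    simp only [Matrix.mul_apply, hK]
    rw [hBe] at h2
    exact h1.trans h2.symm
  calc A = A * K * Kinv := by rw [mul_assoc, hKK, mul_one]
    _ = B * K * Kinv := by rw [key]
    _ = B := by rw [mul_assoc, hKK, mul_one]

end CfsgLib.KnownC.G2Three
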