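import Cfsg.Agent.Lib.KnownC.G2Three.Core

/-!
Tables for `G₂(3)` on its seven-dimensional module.
-/

set_option autoImplicit false

namespace CfsgLib.KnownC.G2Three

/-- A table read as a square matrix of natural numbers. -/
def rd (l : List (List ℕ)) (i j : Fin 7) : ℕ := (l.getD i []).getD j 0

/-- A table read as a matrix modulo three. -/
def castM (l : List (List ℕ)) : Matrix (Fin 7) (Fin 7) (ZMod 3) := Matrix.of fun i j => (rd l i j : ZMod 3)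

/-- The invariant alternating form. -/
def L : List (ℕ × Fin 7 × Fin 7 × Fin 7) :=
  [(2, 0, 1, 6), (1, 0, 6, 1), (1, 1, 0, 6), (2, 1, 6, 0), (2, 6, 0, 1), (1, 6, 1, 0), (1, 0, 2, 5), (2, 0, 5, 2), (2, 2, 0, 5), (1, 2, 5, 0), (1, 5, 0, 2), (2, 5, 2, 0), (1, 0, 3, 4), (2, 0, 4, 3), (2, 3, 0, 4), (1, 3, 4, 0), (1, 4, 0, 3), (2, 4, 3, 0), (1, 1, 4, 5), (2, 1, 5, 4), (2, 4, 1, 5), (1, 4, 5, 1), (1, 5, 1, 4), (2, 5, 4, 1), (1, 2, 3, 6), (2, 2, 6, 3), (2, 3, 2, 6), (1, 3, 6, 2), (1, 6, 2, 3), (2, 6, 3, 2)]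

/-- The identity table. -/
def oneT : List (List ℕ) := [[1, 0, 0, 0, 0, 0, 0], [0, 1, 0, 0, 0, 0, 0], [0, 0, 1, 0, 0, 0, 0], [0, 0, 0, 1, 0, 0, 0], [0, 0, 0, 0, 1, 0, 0], [0, 0, 0, 0, 0, 1, 0], [0, 0, 0, 0, 0, 0, 1]]

/-- The root elements; the parameter `t` of the root `r` is at place `3 r + t`. -/
def genTab : List (List (List ℕ)) :=
  [[[1, 0, 0, 0, 0, 0, 0], [0, 1, 0, 0, 0, 0, 0], [0, 0, 1, 0, 0, 0, 0], [0, 0, 0, 1, 0, 0, 0], [0, 0, 0, 0, 1, 0, 0], [0, 0, 0, 0, 0, 1, 0], [0, 0, 0, 0, 0, 0, 1]],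
    [[1, 0, 0, 0, 0, 0, 0], [0, 1, 0, 0, 0, 1, 0], [0, 0, 1, 0, 0, 0, 2], [0, 0, 0, 1, 0, 0, 0], [0, 0, 0, 0, 1, 0, 0], [0, 0, 0, 0, 0, 1, 0], [0, 0, 0, 0, 0, 0, 1]],
    [[1, 0, 0, 0, 0, 0, 0], [0, 1, 0, 0, 0, 2, 0], [0, 0, 1, 0, 0, 0, 1], [0, 0, 0, 1, 0, 0, 0], [0, 0, 0, 0, 1, 0, 0], [0, 0, 0, 0, 0, 1, 0], [0, 0, 0, 0, 0, 0, 1]],
    [[1, 0, 0, 0, 0, 0, 0], [0, 1, 0, 0, 0, 0, 0], [0, 0, 1, 0, 0, 0, 0], [0, 0, 0, 1, 0, 0, 0], [0, 0, 0, 0, 1, 0, 0], [0, 0, 0, 0, 0, 1, 0], [0, 0, 0, 0, 0, 0, 1]],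
    [[1, 0, 0, 0, 0, 0, 0], [0, 1, 0, 0, 1, 0, 0], [0, 0, 1, 0, 0, 0, 0], [0, 0, 0, 1, 0, 0, 2], [0, 0, 0, 0, 1, 0, 0], [0, 0, 0, 0, 0, 1, 0], [0, 0, 0, 0, 0, 0, 1]],
    [[1, 0, 0, 0, 0, 0, 0], [0, 1, 0, 0, 2, 0, 0], [0, 0, 1, 0, 0, 0, 0], [0, 0, 0, 1, 0, 0, 1], [0, 0, 0, 0, 1, 0, 0], [0, 0, 0, 0, 0, 1, 0], [0, 0, 0, 0, 0, 0, 1]],
    [[1, 0, 0, 0, 0, 0, 0], [0, 1, 0, 0, 0, 0, 0], [0, 0, 1, 0, 0, 0, 0], [0, 0, 0, 1, 0, 0, 0], [0, 0, 0, 0, 1, 0, 0], [0, 0, 0, 0, 0, 1, 0], [0, 0, 0, 0, 0, 0, 1]],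
    [[1, 0, 0, 0, 0, 0, 1], [1, 1, 0, 0, 0, 0, 2], [0, 0, 1, 0, 1, 0, 0], [0, 0, 0, 1, 0, 2, 0], [0, 0, 0, 0, 1, 0, 0], [0, 0, 0, 0, 0, 1, 0], [0, 0, 0, 0, 0, 0, 1]],
    [[1, 0, 0, 0, 0, 0, 2], [2, 1, 0, 0, 0, 0, 2], [0, 0, 1, 0, 2, 0, 0], [0, 0, 0, 1, 0, 1, 0], [0, 0, 0, 0, 1, 0, 0], [0, 0, 0, 0, 0, 1, 0], [0, 0, 0, 0, 0, 0, 1]],
    [[1, 0, 0, 0, 0, 0, 0], [0, 1, 0, 0, 0, 0, 0], [0, 0, 1, 0, 0, 0, 0], [0, 0, 0, 1, 0, 0, 0], [0, 0, 0, 0, 1, 0, 0], [0, 0, 0, 0, 0, 1, 0], [0, 0, 0, 0, 0, 0, 1]],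
    [[1, 0, 0, 0, 0, 2, 0], [0, 1, 0, 1, 0, 0, 0], [2, 0, 1, 0, 0, 2, 0], [0, 0, 0, 1, 0, 0, 0], [0, 0, 0, 0, 1, 0, 2], [0, 0, 0, 0, 0, 1, 0], [0, 0, 0, 0, 0, 0, 1]],
    [[1, 0, 0, 0, 0, 1, 0], [0, 1, 0, 2, 0, 0, 0], [1, 0, 1, 0, 0, 2, 0], [0, 0, 0, 1, 0, 0, 0], [0, 0, 0, 0, 1, 0, 1], [0, 0, 0, 0, 0, 1, 0], [0, 0, 0, 0, 0, 0, 1]],
    [[1, 0, 0, 0, 0, 0, 0], [0, 1, 0, 0, 0, 0, 0], [0, 0, 1, 0, 0, 0, 0], [0, 0, 0, 1, 0, 0, 0], [0, 0, 0, 0, 1, 0, 0], [0, 0, 0, 0, 0, 1, 0], [0, 0, 0, 0, 0, 0, 1]],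
    [[1, 0, 0, 0, 2, 0, 0], [0, 1, 2, 0, 0, 0, 0], [0, 0, 1, 0, 0, 0, 0], [2, 0, 0, 1, 2, 0, 0], [0, 0, 0, 0, 1, 0, 0], [0, 0, 0, 0, 0, 1, 1], [0, 0, 0, 0, 0, 0, 1]],
    [[1, 0, 0, 0, 1, 0, 0], [0, 1, 1, 0, 0, 0, 0], [0, 0, 1, 0, 0, 0, 0], [1, 0, 0, 1, 2, 0, 0], [0, 0, 0, 0, 1, 0, 0], [0, 0, 0, 0, 0, 1, 2], [0, 0, 0, 0, 0, 0, 1]],
    [[1, 0, 0, 0, 0, 0, 0], [0, 1, 0, 0, 0, 0, 0], [0, 0, 1, 0, 0, 0, 0], [0, 0, 0, 1, 0, 0, 0], [0, 0, 0, 0, 1, 0, 0], [0, 0, 0, 0, 0, 1, 0], [0, 0, 0, 0, 0, 0, 1]],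
    [[1, 0, 0, 0, 0, 0, 0], [0, 1, 0, 0, 0, 0, 0], [0, 0, 1, 2, 0, 0, 0], [0, 0, 0, 1, 0, 0, 0], [0, 0, 0, 0, 1, 1, 0], [0, 0, 0, 0, 0, 1, 0], [0, 0, 0, 0, 0, 0, 1]],
    [[1, 0, 0, 0, 0, 0, 0], [0, 1, 0, 0, 0, 0, 0], [0, 0, 1, 1, 0, 0, 0], [0, 0, 0, 1, 0, 0, 0], [0, 0, 0, 0, 1, 2, 0], [0, 0, 0, 0, 0, 1, 0], [0, 0, 0, 0, 0, 0, 1]],
    [[1, 0, 0, 0, 0, 0, 0], [0, 1, 0, 0, 0, 0, 0], [0, 0, 1, 0, 0, 0, 0], [0, 0, 0, 1, 0, 0, 0], [0, 0, 0, 0, 1, 0, 0], [0, 0, 0, 0, 0, 1, 0], [0, 0, 0, 0, 0, 0, 1]],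
    [[1, 0, 0, 0, 0, 0, 0], [0, 1, 0, 0, 0, 0, 0], [0, 0, 1, 0, 0, 0, 0], [0, 0, 2, 1, 0, 0, 0], [0, 0, 0, 0, 1, 0, 0], [0, 0, 0, 0, 1, 1, 0], [0, 0, 0, 0, 0, 0, 1]],
    [[1, 0, 0, 0, 0, 0, 0], [0, 1, 0, 0, 0, 0, 0], [0, 0, 1, 0, 0, 0, 0], [0, 0, 1, 1, 0, 0, 0], [0, 0, 0, 0, 1, 0, 0], [0, 0, 0, 0, 2, 1, 0], [0, 0, 0, 0, 0, 0, 1]],
    [[1, 0, 0, 0, 0, 0, 0], [0, 1, 0, 0, 0, 0, 0], [0, 0, 1, 0, 0, 0, 0], [0, 0, 0, 1, 0, 0, 0], [0, 0, 0, 0, 1, 0, 0], [0, 0, 0, 0, 0, 1, 0], [0, 0, 0, 0, 0, 0, 1]],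
    [[1, 0, 0, 1, 0, 0, 0], [0, 1, 0, 0, 0, 0, 0], [0, 2, 1, 0, 0, 0, 0], [0, 0, 0, 1, 0, 0, 0], [1, 0, 0, 2, 1, 0, 0], [0, 0, 0, 0, 0, 1, 0], [0, 0, 0, 0, 0, 1, 1]],
    [[1, 0, 0, 2, 0, 0, 0], [0, 1, 0, 0, 0, 0, 0], [0, 1, 1, 0, 0, 0, 0], [0, 0, 0, 1, 0, 0, 0], [2, 0, 0, 2, 1, 0, 0], [0, 0, 0, 0, 0, 1, 0], [0, 0, 0, 0, 0, 2, 1]],
    [[1, 0, 0, 0, 0, 0, 0], [0, 1, 0, 0, 0, 0, 0], [0, 0, 1, 0, 0, 0, 0], [0, 0, 0, 1, 0, 0, 0], [0, 0, 0, 0, 1, 0, 0], [0, 0, 0, 0, 0, 1, 0], [0, 0, 0, 0, 0, 0, 1]],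
    [[1, 0, 1, 0, 0, 0, 0], [0, 1, 0, 0, 0, 0, 0], [0, 0, 1, 0, 0, 0, 0], [0, 1, 0, 1, 0, 0, 0], [0, 0, 0, 0, 1, 0, 0], [1, 0, 2, 0, 0, 1, 0], [0, 0, 0, 0, 2, 0, 1]],
    [[1, 0, 2, 0, 0, 0, 0], [0, 1, 0, 0, 0, 0, 0], [0, 0, 1, 0, 0, 0, 0], [0, 2, 0, 1, 0, 0, 0], [0, 0, 0, 0, 1, 0, 0], [2, 0, 2, 0, 0, 1, 0], [0, 0, 0, 0, 1, 0, 1]],
    [[1, 0, 0, 0, 0, 0, 0], [0, 1, 0, 0, 0, 0, 0], [0, 0, 1, 0, 0, 0, 0], [0, 0, 0, 1, 0, 0, 0], [0, 0, 0, 0, 1, 0, 0], [0, 0, 0, 0, 0, 1, 0], [0, 0, 0, 0, 0, 0, 1]],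
    [[1, 2, 0, 0, 0, 0, 0], [0, 1, 0, 0, 0, 0, 0], [0, 0, 1, 0, 0, 0, 0], [0, 0, 0, 1, 0, 0, 0], [0, 0, 1, 0, 1, 0, 0], [0, 0, 0, 2, 0, 1, 0], [2, 2, 0, 0, 0, 0, 1]],
    [[1, 1, 0, 0, 0, 0, 0], [0, 1, 0, 0, 0, 0, 0], [0, 0, 1, 0, 0, 0, 0], [0, 0, 0, 1, 0, 0, 0], [0, 0, 2, 0, 1, 0, 0], [0, 0, 0, 1, 0, 1, 0], [1, 2, 0, 0, 0, 0, 1]],
    [[1, 0, 0, 0, 0, 0, 0], [0, 1, 0, 0, 0, 0, 0], [0, 0, 1, 0, 0, 0, 0], [0, 0, 0, 1, 0, 0, 0], [0, 0, 0, 0, 1, 0, 0], [0, 0, 0, 0, 0, 1, 0], [0, 0, 0, 0, 0, 0, 1]],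
    [[1, 0, 0, 0, 0, 0, 0], [0, 1, 0, 0, 0, 0, 0], [0, 0, 1, 0, 0, 0, 0], [0, 0, 0, 1, 0, 0, 0], [0, 1, 0, 0, 1, 0, 0], [0, 0, 0, 0, 0, 1, 0], [0, 0, 0, 2, 0, 0, 1]],
    [[1, 0, 0, 0, 0, 0, 0], [0, 1, 0, 0, 0, 0, 0], [0, 0, 1, 0, 0, 0, 0], [0, 0, 0, 1, 0, 0, 0], [0, 2, 0, 0, 1, 0, 0], [0, 0, 0, 0, 0, 1, 0], [0, 0, 0, 1, 0, 0, 1]],
    [[1, 0, 0, 0, 0, 0, 0], [0, 1, 0, 0, 0, 0, 0], [0, 0, 1, 0, 0, 0, 0], [0, 0, 0, 1, 0, 0, 0], [0, 0, 0, 0, 1, 0, 0], [0, 0, 0, 0, 0, 1, 0], [0, 0, 0, 0, 0, 0, 1]],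
    [[1, 0, 0, 0, 0, 0, 0], [0, 1, 0, 0, 0, 0, 0], [0, 0, 1, 0, 0, 0, 0], [0, 0, 0, 1, 0, 0, 0], [0, 0, 0, 0, 1, 0, 0], [0, 1, 0, 0, 0, 1, 0], [0, 0, 2, 0, 0, 0, 1]],
    [[1, 0, 0, 0, 0, 0, 0], [0, 1, 0, 0, 0, 0, 0], [0, 0, 1, 0, 0, 0, 0], [0, 0, 0, 1, 0, 0, 0], [0, 0, 0, 0, 1, 0, 0], [0, 2, 0, 0, 0, 1, 0], [0, 0, 1, 0, 0, 0, 1]]]

/-- The powers of the element of order 7. -/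
def sevenPow : List (List (List ℕ)) :=
  [[[1, 0, 0, 0, 0, 0, 0], [0, 1, 0, 0, 0, 0, 0], [0, 0, 1, 0, 0, 0, 0], [0, 0, 0, 1, 0, 0, 0], [0, 0, 0, 0, 1, 0, 0], [0, 0, 0, 0, 0, 1, 0], [0, 0, 0, 0, 0, 0, 1]],
    [[2, 0, 2, 0, 0, 0, 0], [0, 1, 2, 1, 0, 0, 0], [0, 1, 0, 0, 0, 0, 0], [2, 0, 1, 0, 2, 2, 0], [0, 0, 2, 0, 0, 0, 0], [0, 0, 0, 0, 2, 0, 1], [0, 0, 0, 0, 1, 0, 0]],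
    [[1, 2, 1, 0, 0, 0, 0], [2, 0, 0, 1, 2, 2, 0], [0, 1, 2, 1, 0, 0, 0], [1, 1, 2, 0, 1, 0, 2], [0, 2, 0, 0, 0, 0, 0], [0, 0, 1, 0, 1, 0, 0], [0, 0, 2, 0, 0, 0, 0]],
    [[2, 0, 0, 2, 0, 0, 0], [0, 0, 0, 0, 0, 2, 2], [2, 0, 0, 1, 2, 2, 0], [2, 0, 0, 1, 2, 0, 0], [0, 2, 1, 2, 0, 0, 0], [0, 1, 2, 0, 0, 0, 0], [0, 2, 0, 0, 0, 0, 0]],
    [[2, 0, 0, 0, 1, 1, 0], [0, 0, 0, 0, 0, 0, 2], [0, 0, 0, 0, 0, 2, 2], [0, 0, 0, 0, 2, 2, 0], [1, 0, 0, 2, 1, 1, 0], [0, 0, 2, 1, 0, 0, 0], [0, 2, 1, 2, 0, 0, 0]],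
    [[1, 0, 0, 0, 2, 0, 1], [0, 0, 0, 0, 2, 0, 0], [0, 0, 0, 0, 0, 0, 2], [0, 0, 1, 0, 1, 0, 2], [0, 0, 0, 0, 0, 1, 1], [2, 2, 1, 0, 2, 2, 0], [1, 0, 0, 2, 1, 1, 0]],
    [[2, 0, 0, 0, 1, 0, 0], [0, 0, 1, 0, 0, 0, 0], [0, 0, 0, 0, 2, 0, 0], [0, 1, 2, 0, 2, 0, 0], [0, 0, 0, 0, 0, 0, 1], [1, 0, 0, 2, 1, 0, 2], [0, 0, 0, 0, 0, 1, 1]]]

/-- The inverse of the Krylov matrix of the element of order 7. -/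
def sevenInv : List (List ℕ) := [[1, 0, 0, 2, 1, 1, 0], [0, 2, 1, 2, 0, 0, 0], [0, 2, 0, 0, 0, 0, 0], [0, 0, 2, 0, 0, 0, 0], [0, 0, 0, 0, 1, 0, 0], [0, 0, 0, 0, 0, 0, 1], [0, 0, 0, 0, 0, 1, 1]]

/-- The coordinates of all powers of the element of order 7. -/
def sevenCoef : List (List ℕ) := [[1, 0, 0, 0, 0, 0, 0], [0, 1, 0, 0, 0, 0, 0], [0, 0, 1, 0, 0, 0, 0], [0, 0, 0, 1, 0, 0, 0], [0, 0, 0, 0, 1, 0, 0], [0, 0, 0, 0, 0, 1, 0], [0, 0, 0, 0, 0, 0, 1]]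

/-- Columns at which the form is tested. -/
def sevenTri : List (Fin 7 × Fin 7 × Fin 7) := [(0, 1, 3), (0, 1, 6), (0, 1, 2), (0, 1, 5), (0, 1, 4)]

/-- The powers of the element of order 13. -/
def thirteenPow : List (List (List ℕ)) :=
  [[[1, 0, 0, 0, 0, 0, 0], [0, 1, 0, 0, 0, 0, 0], [0, 0, 1, 0, 0, 0, 0], [0, 0, 0, 1, 0, 0, 0], [0, 0, 0, 0, 1, 0, 0], [0, 0, 0, 0, 0, 1, 0], [0, 0, 0, 0, 0, 0, 1]],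
    [[2, 0, 1, 1, 0, 0, 0], [0, 1, 2, 1, 0, 0, 0], [0, 1, 0, 0, 0, 0, 0], [2, 0, 2, 2, 2, 2, 0], [0, 0, 1, 1, 0, 0, 0], [0, 0, 0, 0, 1, 2, 1], [0, 0, 0, 0, 2, 1, 0]],
    [[0, 1, 1, 1, 2, 2, 0], [2, 0, 1, 0, 2, 2, 0], [0, 1, 2, 1, 0, 0, 0], [2, 2, 2, 2, 0, 2, 2], [2, 1, 2, 2, 2, 2, 0], [0, 0, 1, 1, 1, 2, 2], [0, 0, 2, 2, 1, 2, 1]],
    [[2, 2, 0, 2, 1, 0, 2], [1, 1, 1, 1, 2, 1, 2], [2, 0, 1, 0, 2, 2, 0], [2, 1, 1, 2, 1, 1, 2], [2, 0, 1, 0, 0, 2, 2], [2, 1, 0, 0, 2, 2, 2], [1, 2, 2, 2, 2, 0, 2]],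
    [[2, 2, 2, 0, 2, 0, 0], [1, 2, 1, 0, 1, 0, 1], [1, 1, 1, 1, 2, 1, 2], [2, 2, 0, 2, 0, 2, 1], [1, 1, 2, 2, 0, 0, 2], [1, 1, 0, 2, 0, 0, 2], [0, 1, 2, 0, 2, 0, 0]],
    [[1, 1, 2, 0, 0, 0, 0], [2, 0, 0, 1, 2, 1, 0], [1, 2, 1, 0, 1, 0, 1], [2, 2, 1, 2, 2, 0, 2], [0, 0, 1, 0, 2, 0, 0], [0, 1, 1, 0, 2, 0, 0], [0, 0, 1, 0, 0, 0, 0]],
    [[2, 0, 0, 2, 0, 0, 0], [0, 0, 0, 0, 0, 1, 1], [2, 0, 0, 1, 2, 1, 0], [2, 0, 0, 1, 2, 0, 0], [0, 1, 2, 2, 0, 0, 0], [0, 2, 1, 0, 0, 0, 0], [0, 1, 0, 0, 0, 0, 0]]]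

/-- The inverse of the Krylov matrix of the element of order 13. -/
def thirteenInv : List (List ℕ) := [[1, 2, 0, 2, 2, 2, 2], [0, 2, 1, 2, 2, 0, 0], [0, 0, 0, 0, 2, 1, 0], [0, 0, 0, 0, 0, 0, 1], [0, 0, 0, 0, 0, 1, 1], [0, 2, 0, 0, 1, 0, 2], [0, 2, 2, 0, 1, 1, 2]]

/-- The coordinates of all powers of the element of order 13. -/
def thirteenCoef : List (List ℕ) := [[1, 0, 0, 0, 0, 0, 0], [0, 1, 0, 0, 0, 0, 0], [0, 0, 1, 0, 0, 0, 0], [0, 0, 0, 1, 0, 0, 0], [0, 0, 0, 0, 1, 0, 0], [0, 0, 0, 0, 0, 1, 0], [0, 0, 0, 0, 0, 0, 1], [1, 2, 2, 0, 0, 1, 1], [1, 0, 1, 2, 0, 1, 2], [2, 2, 1, 1, 2, 2, 0], [0, 2, 2, 1, 1, 2, 2], [2, 1, 0, 2, 1, 0, 1], [1, 1, 0, 0, 2, 2, 1]]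

/-- Columns at which the form is tested. -/
def thirteenTri : List (Fin 7 × Fin 7 × Fin 7) := [(0, 2, 5), (2, 4, 6), (0, 1, 2), (0, 1, 3)]

/-- The element of order six. -/
def sixT : List (List ℕ) := [[2, 0, 0, 2, 0, 0, 0], [0, 1, 2, 0, 0, 0, 0], [0, 1, 0, 0, 0, 0, 0], [2, 0, 0, 1, 2, 0, 0], [0, 0, 0, 2, 0, 0, 0], [0, 0, 0, 0, 0, 1, 1], [0, 0, 0, 0, 0, 2, 0]]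

/-- The partial products of the word for the element of order 7. -/
def sevenPre : List (List (List ℕ)) :=
  [[[1, 0, 0, 1, 0, 0, 0], [0, 1, 0, 0, 0, 0, 0], [0, 2, 1, 0, 0, 0, 0], [0, 0, 0, 1, 0, 0, 0], [1, 0, 0, 2, 1, 0, 0], [0, 0, 0, 0, 0, 1, 0], [0, 0, 0, 0, 0, 1, 1]],
    [[1, 0, 0, 2, 0, 0, 0], [0, 1, 0, 0, 0, 0, 0], [0, 1, 1, 0, 0, 0, 0], [0, 0, 0, 1, 0, 0, 0], [2, 0, 0, 2, 1, 0, 0], [0, 0, 0, 0, 0, 1, 0], [0, 0, 0, 0, 0, 2, 1]],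
    [[1, 0, 1, 2, 0, 0, 0], [0, 1, 0, 0, 0, 0, 0], [0, 1, 1, 0, 0, 0, 0], [0, 0, 2, 1, 0, 0, 0], [2, 0, 1, 2, 1, 0, 0], [0, 0, 0, 0, 1, 1, 0], [0, 0, 0, 0, 2, 2, 1]],
    [[1, 0, 2, 2, 0, 0, 0], [0, 1, 0, 0, 0, 0, 0], [0, 1, 1, 0, 0, 0, 0], [0, 0, 1, 1, 0, 0, 0], [2, 0, 2, 2, 1, 0, 0], [0, 0, 0, 0, 2, 1, 0], [0, 0, 0, 0, 1, 2, 1]],
    [[2, 0, 2, 2, 0, 0, 0], [0, 1, 2, 0, 0, 0, 0], [0, 1, 0, 0, 0, 0, 0], [2, 0, 1, 1, 2, 0, 0], [0, 0, 2, 2, 0, 0, 0], [0, 0, 0, 0, 2, 1, 1], [0, 0, 0, 0, 1, 2, 0]],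
    [[2, 0, 2, 0, 0, 0, 0], [0, 1, 2, 1, 0, 0, 0], [0, 1, 0, 0, 0, 0, 0], [2, 0, 1, 0, 2, 2, 0], [0, 0, 2, 0, 0, 0, 0], [0, 0, 0, 0, 2, 0, 1], [0, 0, 0, 0, 1, 0, 0]]]

/-- All powers of the element of order 7. -/
def sevenAll : List (List (List ℕ)) :=
  [[[1, 0, 0, 0, 0, 0, 0], [0, 1, 0, 0, 0, 0, 0], [0, 0, 1, 0, 0, 0, 0], [0, 0, 0, 1, 0, 0, 0], [0, 0, 0, 0, 1, 0, 0], [0, 0, 0, 0, 0, 1, 0], [0, 0, 0, 0, 0, 0, 1]],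
    [[2, 0, 2, 0, 0, 0, 0], [0, 1, 2, 1, 0, 0, 0], [0, 1, 0, 0, 0, 0, 0], [2, 0, 1, 0, 2, 2, 0], [0, 0, 2, 0, 0, 0, 0], [0, 0, 0, 0, 2, 0, 1], [0, 0, 0, 0, 1, 0, 0]],
    [[1, 2, 1, 0, 0, 0, 0], [2, 0, 0, 1, 2, 2, 0], [0, 1, 2, 1, 0, 0, 0], [1, 1, 2, 0, 1, 0, 2], [0, 2, 0, 0, 0, 0, 0], [0, 0, 1, 0, 1, 0, 0], [0, 0, 2, 0, 0, 0, 0]],
    [[2, 0, 0, 2, 0, 0, 0], [0, 0, 0, 0, 0, 2, 2], [2, 0, 0, 1, 2, 2, 0], [2, 0, 0, 1, 2, 0, 0], [0, 2, 1, 2, 0, 0, 0], [0, 1, 2, 0, 0, 0, 0], [0, 2, 0, 0, 0, 0, 0]],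
    [[2, 0, 0, 0, 1, 1, 0], [0, 0, 0, 0, 0, 0, 2], [0, 0, 0, 0, 0, 2, 2], [0, 0, 0, 0, 2, 2, 0], [1, 0, 0, 2, 1, 1, 0], [0, 0, 2, 1, 0, 0, 0], [0, 2, 1, 2, 0, 0, 0]],
    [[1, 0, 0, 0, 2, 0, 1], [0, 0, 0, 0, 2, 0, 0], [0, 0, 0, 0, 0, 0, 2], [0, 0, 1, 0, 1, 0, 2], [0, 0, 0, 0, 0, 1, 1], [2, 2, 1, 0, 2, 2, 0], [1, 0, 0, 2, 1, 1, 0]],
    [[2, 0, 0, 0, 1, 0, 0], [0, 0, 1, 0, 0, 0, 0], [0, 0, 0, 0, 2, 0, 0], [0, 1, 2, 0, 2, 0, 0], [0, 0, 0, 0, 0, 0, 1], [1, 0, 0, 2, 1, 0, 2], [0, 0, 0, 0, 0, 1, 1]]]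

/-- The partial products of the word for the element of order 13. -/
def thirteenPre : List (List (List ℕ)) :=
  [[[1, 0, 0, 1, 0, 0, 0], [0, 1, 0, 0, 0, 0, 0], [0, 2, 1, 0, 0, 0, 0], [0, 0, 0, 1, 0, 0, 0], [1, 0, 0, 2, 1, 0, 0], [0, 0, 0, 0, 0, 1, 0], [0, 0, 0, 0, 0, 1, 1]],
    [[1, 0, 0, 2, 0, 0, 0], [0, 1, 0, 0, 0, 0, 0], [0, 1, 1, 0, 0, 0, 0], [0, 0, 0, 1, 0, 0, 0], [2, 0, 0, 2, 1, 0, 0], [0, 0, 0, 0, 0, 1, 0], [0, 0, 0, 0, 0, 2, 1]],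
    [[1, 0, 1, 2, 0, 0, 0], [0, 1, 0, 0, 0, 0, 0], [0, 1, 1, 0, 0, 0, 0], [0, 0, 2, 1, 0, 0, 0], [2, 0, 1, 2, 1, 0, 0], [0, 0, 0, 0, 1, 1, 0], [0, 0, 0, 0, 2, 2, 1]],
    [[2, 0, 1, 2, 0, 0, 0], [0, 1, 2, 0, 0, 0, 0], [0, 1, 0, 0, 0, 0, 0], [2, 0, 2, 1, 2, 0, 0], [0, 0, 1, 2, 0, 0, 0], [0, 0, 0, 0, 1, 1, 1], [0, 0, 0, 0, 2, 2, 0]],
    [[2, 0, 1, 1, 0, 0, 0], [0, 1, 2, 1, 0, 0, 0], [0, 1, 0, 0, 0, 0, 0], [2, 0, 2, 2, 2, 2, 0], [0, 0, 1, 1, 0, 0, 0], [0, 0, 0, 0, 1, 2, 1], [0, 0, 0, 0, 2, 1, 0]]]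

/-- All powers of the element of order 13. -/
def thirteenAll : List (List (List ℕ)) :=
  [[[1, 0, 0, 0, 0, 0, 0], [0, 1, 0, 0, 0, 0, 0], [0, 0, 1, 0, 0, 0, 0], [0, 0, 0, 1, 0, 0, 0], [0, 0, 0, 0, 1, 0, 0], [0, 0, 0, 0, 0, 1, 0], [0, 0, 0, 0, 0, 0, 1]],
    [[2, 0, 1, 1, 0, 0, 0], [0, 1, 2, 1, 0, 0, 0], [0, 1, 0, 0, 0, 0, 0], [2, 0, 2, 2, 2, 2, 0], [0, 0, 1, 1, 0, 0, 0], [0, 0, 0, 0, 1, 2, 1], [0, 0, 0, 0, 2, 1, 0]],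
    [[0, 1, 1, 1, 2, 2, 0], [2, 0, 1, 0, 2, 2, 0], [0, 1, 2, 1, 0, 0, 0], [2, 2, 2, 2, 0, 2, 2], [2, 1, 2, 2, 2, 2, 0], [0, 0, 1, 1, 1, 2, 2], [0, 0, 2, 2, 1, 2, 1]],
    [[2, 2, 0, 2, 1, 0, 2], [1, 1, 1, 1, 2, 1, 2], [2, 0, 1, 0, 2, 2, 0], [2, 1, 1, 2, 1, 1, 2], [2, 0, 1, 0, 0, 2, 2], [2, 1, 0, 0, 2, 2, 2], [1, 2, 2, 2, 2, 0, 2]],
    [[2, 2, 2, 0, 2, 0, 0], [1, 2, 1, 0, 1, 0, 1], [1, 1, 1, 1, 2, 1, 2], [2, 2, 0, 2, 0, 2, 1], [1, 1, 2, 2, 0, 0, 2], [1, 1, 0, 2, 0, 0, 2], [0, 1, 2, 0, 2, 0, 0]],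
    [[1, 1, 2, 0, 0, 0, 0], [2, 0, 0, 1, 2, 1, 0], [1, 2, 1, 0, 1, 0, 1], [2, 2, 1, 2, 2, 0, 2], [0, 0, 1, 0, 2, 0, 0], [0, 1, 1, 0, 2, 0, 0], [0, 0, 1, 0, 0, 0, 0]],
    [[2, 0, 0, 2, 0, 0, 0], [0, 0, 0, 0, 0, 1, 1], [2, 0, 0, 1, 2, 1, 0], [2, 0, 0, 1, 2, 0, 0], [0, 1, 2, 2, 0, 0, 0], [0, 2, 1, 0, 0, 0, 0], [0, 1, 0, 0, 0, 0, 0]],
    [[2, 0, 0, 0, 1, 1, 0], [0, 0, 0, 0, 0, 0, 1], [0, 0, 0, 0, 0, 1, 1], [0, 0, 0, 0, 2, 2, 0], [1, 0, 0, 2, 1, 1, 0], [0, 0, 1, 2, 0, 0, 0], [0, 1, 2, 1, 0, 0, 0]],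
    [[1, 0, 0, 0, 1, 2, 1], [0, 0, 0, 0, 2, 1, 0], [0, 0, 0, 0, 0, 0, 1], [0, 0, 2, 2, 2, 1, 2], [0, 0, 0, 0, 2, 0, 1], [1, 1, 1, 1, 1, 1, 0], [2, 0, 1, 0, 2, 2, 0]],
    [[2, 0, 2, 2, 1, 2, 2], [0, 0, 2, 2, 1, 2, 1], [0, 0, 0, 0, 2, 1, 0], [1, 2, 0, 0, 0, 2, 1], [0, 0, 2, 2, 2, 1, 0], [1, 2, 0, 2, 0, 1, 1], [1, 1, 1, 1, 2, 1, 2]],
    [[2, 2, 1, 1, 1, 1, 2], [1, 2, 2, 2, 2, 0, 2], [0, 0, 2, 2, 1, 2, 1], [2, 2, 2, 0, 1, 2, 2], [1, 2, 0, 0, 2, 0, 1], [0, 2, 0, 1, 1, 1, 1], [1, 2, 1, 0, 1, 0, 1]],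
    [[0, 0, 0, 1, 1, 0, 1], [0, 1, 2, 0, 2, 0, 0], [1, 2, 2, 2, 2, 0, 2], [1, 1, 1, 2, 0, 0, 2], [2, 2, 1, 2, 2, 1, 0], [2, 2, 1, 2, 2, 2, 1], [2, 0, 0, 1, 2, 1, 0]],
    [[2, 0, 0, 0, 1, 0, 0], [0, 0, 1, 0, 0, 0, 0], [0, 1, 2, 0, 2, 0, 0], [0, 2, 1, 0, 2, 0, 0], [2, 0, 0, 1, 2, 0, 1], [2, 0, 0, 1, 2, 0, 2], [0, 0, 0, 0, 0, 1, 1]]]

/-- The partial products of the word for the element of order 6. -/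
def sixPre : List (List (List ℕ)) :=
  [[[1, 0, 0, 1, 0, 0, 0], [0, 1, 0, 0, 0, 0, 0], [0, 2, 1, 0, 0, 0, 0], [0, 0, 0, 1, 0, 0, 0], [1, 0, 0, 2, 1, 0, 0], [0, 0, 0, 0, 0, 1, 0], [0, 0, 0, 0, 0, 1, 1]],
    [[1, 0, 0, 2, 0, 0, 0], [0, 1, 0, 0, 0, 0, 0], [0, 1, 1, 0, 0, 0, 0], [0, 0, 0, 1, 0, 0, 0], [2, 0, 0, 2, 1, 0, 0], [0, 0, 0, 0, 0, 1, 0], [0, 0, 0, 0, 0, 2, 1]],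
    [[2, 0, 0, 2, 0, 0, 0], [0, 1, 2, 0, 0, 0, 0], [0, 1, 0, 0, 0, 0, 0], [2, 0, 0, 1, 2, 0, 0], [0, 0, 0, 2, 0, 0, 0], [0, 0, 0, 0, 0, 1, 1], [0, 0, 0, 0, 0, 2, 0]]]

/-- All powers of the element of order 6. -/
def sixAll : List (List (List ℕ)) :=
  [[[1, 0, 0, 0, 0, 0, 0], [0, 1, 0, 0, 0, 0, 0], [0, 0, 1, 0, 0, 0, 0], [0, 0, 0, 1, 0, 0, 0], [0, 0, 0, 0, 1, 0, 0], [0, 0, 0, 0, 0, 1, 0], [0, 0, 0, 0, 0, 0, 1]],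
    [[2, 0, 0, 2, 0, 0, 0], [0, 1, 2, 0, 0, 0, 0], [0, 1, 0, 0, 0, 0, 0], [2, 0, 0, 1, 2, 0, 0], [0, 0, 0, 2, 0, 0, 0], [0, 0, 0, 0, 0, 1, 1], [0, 0, 0, 0, 0, 2, 0]],
    [[2, 0, 0, 0, 1, 0, 0], [0, 0, 2, 0, 0, 0, 0], [0, 1, 2, 0, 0, 0, 0], [0, 0, 0, 0, 2, 0, 0], [1, 0, 0, 2, 1, 0, 0], [0, 0, 0, 0, 0, 0, 1], [0, 0, 0, 0, 0, 2, 2]],
    [[1, 0, 0, 0, 0, 0, 0], [0, 2, 0, 0, 0, 0, 0], [0, 0, 2, 0, 0, 0, 0], [0, 0, 0, 1, 0, 0, 0], [0, 0, 0, 0, 1, 0, 0], [0, 0, 0, 0, 0, 2, 0], [0, 0, 0, 0, 0, 0, 2]],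
    [[2, 0, 0, 2, 0, 0, 0], [0, 2, 1, 0, 0, 0, 0], [0, 2, 0, 0, 0, 0, 0], [2, 0, 0, 1, 2, 0, 0], [0, 0, 0, 2, 0, 0, 0], [0, 0, 0, 0, 0, 2, 2], [0, 0, 0, 0, 0, 1, 0]],
    [[2, 0, 0, 0, 1, 0, 0], [0, 0, 1, 0, 0, 0, 0], [0, 2, 1, 0, 0, 0, 0], [0, 0, 0, 0, 2, 0, 0], [1, 0, 0, 2, 1, 0, 0], [0, 0, 0, 0, 0, 0, 2], [0, 0, 0, 0, 0, 1, 1]]]

end CfsgLib.KnownC.G2Three
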