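import Cfsg.Agent.Lib.KnownC.G2Three.Checks
import Cfsg.Agent.S1055
import Cfsg.Agent.S1059
import Cfsg.Prelude.Def_ChevG2
import Mathlib.GroupTheory.Sylow

/-!
`G₂(3)` on its seven-dimensional module, and the centralisers of its elements of order `7` and `13`.
-/

set_option autoImplicit false

namespace CfsgLib.KnownC.G2Three

open Matrix Cfsg.Lie

/-- The group `G₂(3)`. -/
abbrev G23 : Type := ↥(chevG2.group (ZMod 3))

/-- The coordinates spanning the invariant subspace: a coroot and the short roots. -/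
def sel : Fin 7 → chevG2.Idx :=
  ![Sum.inl ⟨0, by decide⟩, Sum.inr ⟨2, by decide⟩, Sum.inr ⟨3, by decide⟩, Sum.inr ⟨4, by decide⟩,
    Sum.inr ⟨7, by decide⟩, Sum.inr ⟨8, by decide⟩, Sum.inr ⟨9, by decide⟩]

/-- The other coordinates. -/
def oth : Fin 7 → chevG2.Idx :=
  ![Sum.inl ⟨1, by decide⟩, Sum.inr ⟨0, by decide⟩, Sum.inr ⟨1, by decide⟩, Sum.inr ⟨5, by decide⟩,
    Sum.inr ⟨6, by decide⟩, Sum.inr ⟨10, by decide⟩, Sum.inr ⟨11, by decide⟩]

theorem split_bij : Function.Bijective (Sum.elim sel oth) := by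
  constructor
  · decide +kernel
  · decide +kernel

/-- The block on the invariant subspace. -/
def blk (M : Matrix chevG2.Idx chevG2.Idx (ZMod 3)) : Matrix (Fin 7) (Fin 7) (ZMod 3) := M.submatrix sel sel

/-- The conditions on the elements of the group. -/
def Good (M : Matrix chevG2.Idx chevG2.Idx (ZMod 3)) : Prop :=
  (∀ i j : Fin 7, M (oth i) (sel j) = 0) ∧ Preserves L (blk M)

theorem mul_entry (A B : Matrix chevG2.Idx chevG2.Idx (ZMod 3)) (x y : chevG2.Idx) :
    (A * B) x y = (∑ j, A x (sel j) * B (sel j) y) + ∑ j, A x (oth j) * B (oth j) y := by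
  rw [Matrix.mul_apply, ← Fintype.sum_bijective _ split_bij (fun s => A x (Sum.elim sel oth s) * B (Sum.elim sel oth s) y)
    _ (fun _ => rfl), Fintype.sum_sum_type]
  rfl

theorem blk_mul (A : Matrix chevG2.Idx chevG2.Idx (ZMod 3)) {B : Matrix chevG2.Idx chevG2.Idx (ZMod 3)}
    (hB : ∀ i j : Fin 7, B (oth i) (sel j) = 0) : blk (A * B) = blk A * blk B := by
  ext i j
  rw [blk, Matrix.submatrix_apply, mul_entry, Matrix.mul_apply]
  simp [hB, blk]

theorem blk_one : blk (1 : Matrix chevG2.Idx chevG2.Idx (ZMod 3)) = 1 := by decide +kernel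

theorem good_one : Good (1 : Matrix chevG2.Idx chevG2.Idx (ZMod 3)) :=
  ⟨by decide +kernel, by rw [blk_one]; exact preserves_one L⟩

theorem Good.mul {A B : Matrix chevG2.Idx chevG2.Idx (ZMod 3)} (hA : Good A) (hB : Good B) : Good (A * B) := by
  refine ⟨fun i j => ?_, ?_⟩
  · rw [mul_entry]
    simp [hA.1, hB.1]
  · rw [blk_mul A hB.1]
    exact hA.2.mul hB.2

theorem xMat_tab : ∀ (r : Fin chevG2.nroots) (t : ZMod 3),
    (∀ i j : Fin 7, chevG2.xMat (ZMod 3) r t (oth i) (sel j) = 0) ∧
      blk (chevG2.xMat (ZMod 3) r t) = castM (genTab.getD (3 * r.val + ZMod.val t) []) := by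
  decide +kernel

theorem preserves_castM {l : List (List ℕ)}
    (h : ∀ a b c : Fin 7, triVal L (rd l) a b c % 3 = triVal L (rd oneT) a b c % 3) :
    Preserves L (castM l) := fun a b c => by
  rw [← oneT_eq]
  exact ((triVal_map (Nat.castRingHom (ZMod 3)) L (rd l) a b c).trans ((ZMod.natCast_eq_natCast_iff' _ _ 3).2
    (h a b c))).trans (triVal_map (Nat.castRingHom (ZMod 3)) L (rd oneT) a b c).symm

theorem good_xMat (r : Fin chevG2.nroots) (t : ZMod 3) : Good (chevG2.xMat (ZMod 3) r t) := by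
  obtain ⟨h1, h2⟩ := xMat_tab r t
  refine ⟨h1, ?_⟩
  rw [h2]
  have hr : r.val < 12 := r.2
  have ht := ZMod.val_lt t
  exact preserves_castM (gen_preserves ⟨3 * r.val + ZMod.val t, by omega⟩)

theorem good_mem (g : G23) : Good ((g : GL chevG2.Idx (ZMod 3)) : Matrix chevG2.Idx chevG2.Idx (ZMod 3)) := by
  obtain ⟨g, hg⟩ := g
  have hg' : g ∈ (Subgroup.closure {h : GL chevG2.Idx (ZMod 3) | ∃ (r : Fin chevG2.nroots) (t : ZMod 3),
      (h : Matrix chevG2.Idx chevG2.Idx (ZMod 3)) = chevG2.xMat (ZMod 3) r t}).toSubmonoid := hg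
  rw [Subgroup.closure_toSubmonoid_of_finite] at hg'
  show Good (g : Matrix chevG2.Idx chevG2.Idx (ZMod 3))
  clear hg
  induction hg' using Submonoid.closure_induction with
  | mem x hx =>
    obtain ⟨r, t, h⟩ := hx
    rw [h]
    exact good_xMat r t
  | one => exact good_one
  | mul x y _ _ hx hy =>
    rw [Units.val_mul]
    exact hx.mul hy

/-- The representation on the invariant subspace. -/
def rep : G23 →* Matrix (Fin 7) (Fin 7) (ZMod 3) where
  toFun g := blk ((g : GL chevG2.Idx (ZMod 3)) : Matrix chevG2.Idx chevG2.Idx (ZMod 3))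
  map_one' := blk_one
  map_mul' g h := by
    simp only [Subgroup.coe_mul, Units.val_mul]
    exact blk_mul _ (good_mem h).1

theorem rep_preserves (g : G23) : Preserves L (rep g) := (good_mem g).2

theorem xMat_mul_neg : ∀ (r : Fin chevG2.nroots), r.val ∈ [4, 5, 6, 7] →
    chevG2.xMat (ZMod 3) r 1 * chevG2.xMat (ZMod 3) r 2 = 1 ∧
      chevG2.xMat (ZMod 3) r 2 * chevG2.xMat (ZMod 3) r 1 = 1 := by decide +kernel

/-- The root element of the root `r` (one of the four simple roots or their negatives). -/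
def rootElt (r : Fin chevG2.nroots) (hr : r.val ∈ [4, 5, 6, 7]) : G23 :=
  ⟨⟨chevG2.xMat (ZMod 3) r 1, chevG2.xMat (ZMod 3) r 2, (xMat_mul_neg r hr).1, (xMat_mul_neg r hr).2⟩,
    Subgroup.subset_closure ⟨r, 1, rfl⟩⟩

theorem rep_rootElt (r : Fin chevG2.nroots) (hr : r.val ∈ [4, 5, 6, 7]) :
    rep (rootElt r hr) = castM (genTab.getD (3 * r.val + 1) []) := (xMat_tab r 1).2

/-- An element of order `7`. -/
def seven : G23 :=
  rootElt ⟨7, by decide⟩ (by decide) * rootElt ⟨7, by decide⟩ (by decide) * rootElt ⟨6, by decide⟩ (by decide) *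
    rootElt ⟨6, by decide⟩ (by decide) * rootElt ⟨4, by decide⟩ (by decide) * rootElt ⟨5, by decide⟩ (by decide)

/-- An element of order `13`. -/
def thirteen : G23 :=
  rootElt ⟨7, by decide⟩ (by decide) * rootElt ⟨7, by decide⟩ (by decide) * rootElt ⟨6, by decide⟩ (by decide) *
    rootElt ⟨4, by decide⟩ (by decide) * rootElt ⟨5, by decide⟩ (by decide)

/-- An element of order `6`. -/
def six : G23 :=
  rootElt ⟨7, by decide⟩ (by decide) * rootElt ⟨7, by decide⟩ (by decide) * rootElt ⟨4, by decide⟩ (by decide)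

theorem rep_step {x : G23} {l o : List (List ℕ)} {r : Fin chevG2.nroots} {hr : r.val ∈ [4, 5, 6, 7]}
    (h : rep x = castM l) (h' : castM l * castM (genTab.getD (3 * r.val + 1) []) = castM o) :
    rep (x * rootElt r hr) = castM o := by
  rw [map_mul, h, rep_rootElt, h']

theorem rep_seven : rep seven = castM (sevenAll.getD 1 []) := by
  refine (rep_step (l := sevenPre.getD 4 []) (rep_step (l := sevenPre.getD 3 []) (rep_step (l := sevenPre.getD 2 [])
    (rep_step (l := sevenPre.getD 1 []) (rep_step (rep_rootElt _ _) ?_) ?_) ?_) ?_) ?_) <;> decide +kernel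

theorem rep_thirteen : rep thirteen = castM (thirteenAll.getD 1 []) := by
  refine (rep_step (l := thirteenPre.getD 3 []) (rep_step (l := thirteenPre.getD 2 [])
    (rep_step (l := thirteenPre.getD 1 []) (rep_step (rep_rootElt _ _) ?_) ?_) ?_) ?_) <;> decide +kernel

theorem rep_six : rep six = castM (sixAll.getD 1 []) := by
  refine (rep_step (l := sixPre.getD 1 []) (rep_step (rep_rootElt _ _) ?_) ?_) <;> decide +kernel

theorem simple : IsSimpleGroup G23 :=
  (Cfsg.Agent.S1055.result (F := ZMod 3) ⟨2, by decide, by decide⟩).1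

theorem card : Nat.card G23 = 4245696 := by
  rw [Cfsg.Agent.S1059.result (F := ZMod 3) (ZMod.card 3)]
  norm_num

theorem six_ne : castM (sixAll.getD 1 []) ≠ 1 ∧ castM (sixAll.getD 2 []) ≠ 1 ∧
    castM (sixAll.getD 3 []) ≠ 1 := by decide +kernel

theorem rep_inj : Function.Injective rep := by
  haveI := simple
  have hn := (MonoidHom.normal_ker rep.toHomUnits)
  rcases hn.eq_bot_or_eq_top with h | h
  · intro x y hxy
    exact (MonoidHom.ker_eq_bot_iff _).1 h (Units.ext hxy)
  · exfalso
    have h1 : rep.toHomUnits six = 1 := by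
      rw [← MonoidHom.mem_ker, h]; exact Subgroup.mem_top _
    have h2 : rep six = 1 := by simpa using congrArg Units.val h1
    rw [rep_six] at h2
    exact six_ne.1 h2

theorem pow_tab {P : List (List (List ℕ))} {o : ℕ} (ho : 0 < o) (h0 : castM (P.getD 0 []) = 1)
    (hs : ∀ t : Fin o, castM (P.getD t.val []) * castM (P.getD 1 []) = castM (P.getD ((t.val + 1) % o) [])) :
    ∀ t ≤ o, castM (P.getD 1 []) ^ t = castM (P.getD (t % o) []) := by
  intro t ht
  induction t with
  | zero => rw [pow_zero, Nat.zero_mod, h0]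
  | succ t ih =>
    rw [pow_succ, ih (Nat.le_of_succ_le ht), Nat.mod_eq_of_lt ht]
    exact hs ⟨t, ht⟩

theorem pow_eq_one_of_tab {x : G23} {P : List (List (List ℕ))} {o : ℕ} (hx : rep x = castM (P.getD 1 []))
    (ho : 0 < o) (h0 : castM (P.getD 0 []) = 1)
    (hs : ∀ t : Fin o, castM (P.getD t.val []) * castM (P.getD 1 []) = castM (P.getD ((t.val + 1) % o) []))
    (hinj : Function.Injective rep) : x ^ o = 1 := by
  refine hinj ?_
  rw [map_pow, hx, map_one, pow_tab ho h0 hs o le_rfl, Nat.mod_self, h0]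

/-- What is checked for an element `x` of order `o` and its tables. -/
theorem commute_eq_pow {x : G23} {o : ℕ} {Q P : List (List (List ℕ))} {I : List (List ℕ)} {C : List (List ℕ)}
    {T : List (Fin 7 × Fin 7 × Fin 7)} (ho : 7 ≤ o)
    (hx : rep x = castM (P.getD 1 [])) (h0 : castM (P.getD 0 []) = 1)
    (hs : ∀ t : Fin o, castM (P.getD t.val []) * castM (P.getD 1 []) = castM (P.getD ((t.val + 1) % o) []))
    (hQ : ∀ t : Fin 7, Q.getD t.val [] = P.getD t.val [])
    (hI : (Matrix.of fun i t : Fin 7 => castM (Q.getD t.val []) i 0) * castM I = 1)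
    (hC : ∀ l ∈ C, ∃ k : Fin o, Matrix.of (fun i j => (comb Q l i j : ZMod 3)) = castM (P.getD k.val []))
    (hcases : ∀ a b c d e f g : Fin 3, test T (comb Q [a, b, c, d, e, f, g]) = true →
      ([a, b, c, d, e, f, g] : List ℕ) ∈ C)
    {y : G23} (hy : Commute y x) : ∃ k : ℕ, y = x ^ k := by
  have hA : rep y * castM (P.getD 1 []) = castM (P.getD 1 []) * rep y := by
    rw [← hx, ← map_mul, ← map_mul, hy.eq]
  have hp : ∀ t, t < o → castM (P.getD t []) = castM (P.getD 1 []) ^ t := fun t ht => by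
    rw [pow_tab (by omega) h0 hs t ht.le, Nat.mod_eq_of_lt ht]
  have hP : ∀ t : Fin 7, castM (Q.getD t.val []) = castM (P.getD 1 []) ^ t.val := fun t => by
    rw [hQ t]; exact hp _ (by have := t.2; omega)
  set X := castM (P.getD 1 []) with hX
  have h := commutant (X := X) (A := rep y) (K := Matrix.of fun i t : Fin 7 => castM (Q.getD t.val []) i 0)
    (Kinv := castM I) (Pi.single 0 1) (fun i t => by rw [Matrix.mulVec_single_one]; exact congrFun (congrFun (hP t) i) 0) hI hA
  generalize (castM I *ᵥ (rep y *ᵥ Pi.single 0 1)) = c at h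
  let v : Fin 7 → ℕ := fun t => (c t).val
  have hcomb : ∀ i j, rep y i j = (comb Q [v 0, v 1, v 2, v 3, v 4, v 5, v 6] i j : ZMod 3) := by
    intro i j
    rw [h, Matrix.sum_apply, Fin.sum_univ_seven]
    simp only [Matrix.smul_apply, ← hP, smul_eq_mul, comb, List.getD_cons_zero, List.getD_cons_succ, v,
      Nat.cast_add, Nat.cast_mul, ZMod.natCast_val, ZMod.cast_id', id_eq]
    rfl
  have htest : test T (comb Q [v 0, v 1, v 2, v 3, v 4, v 5, v 6]) = true := by
    simp only [test, List.all_eq_true, beq_iff_eq]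
    intro t _
    refine (ZMod.natCast_eq_natCast_iff' _ _ 3).1 ?_
    refine (triVal_map (Nat.castRingHom (ZMod 3)) L _ _ _ _).symm.trans
      (Eq.trans ?_ (triVal_map (Nat.castRingHom (ZMod 3)) L (rd oneT) _ _ _))
    have e1 : (fun i j => Nat.castRingHom (ZMod 3) (comb Q [v 0, v 1, v 2, v 3, v 4, v 5, v 6] i j)) = rep y := by
      funext i j; exact (hcomb i j).symm
    rw [e1]
    exact ((rep_preserves y) _ _ _).trans (congrArg (fun M => triVal L M _ _ _) oneT_eq.symm)
  have hmem := hcases ⟨v 0, ZMod.val_lt _⟩ ⟨v 1, ZMod.val_lt _⟩ ⟨v 2, ZMod.val_lt _⟩ ⟨v 3, ZMod.val_lt _⟩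
    ⟨v 4, ZMod.val_lt _⟩ ⟨v 5, ZMod.val_lt _⟩ ⟨v 6, ZMod.val_lt _⟩ htest
  obtain ⟨k, hk⟩ := hC _ hmem
  refine ⟨k.val, rep_inj ?_⟩
  rw [map_pow, hx, ← hp _ k.2, ← hk]
  ext i j
  exact hcomb i j

theorem seven_step : ∀ t : Fin 7, castM (sevenAll.getD t.val []) * castM (sevenAll.getD 1 []) =
    castM (sevenAll.getD ((t.val + 1) % 7) []) := by decide +kernel

theorem thirteen_step : ∀ t : Fin 13, castM (thirteenAll.getD t.val []) * castM (thirteenAll.getD 1 []) =
    castM (thirteenAll.getD ((t.val + 1) % 13) []) := by decide +kernel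

theorem seven_commute {y : G23} (hy : Commute y seven) : ∃ k : ℕ, y = seven ^ k :=
  commute_eq_pow (o := 7) (Q := sevenPow) (I := sevenInv) (C := sevenCoef) le_rfl rep_seven oneT_eq seven_step
    (by decide +kernel) (by decide +kernel) (by decide +kernel) seven_cases hy

theorem thirteen_commute {y : G23} (hy : Commute y thirteen) : ∃ k : ℕ, y = thirteen ^ k :=
  commute_eq_pow (o := 13) (Q := thirteenPow) (I := thirteenInv) (C := thirteenCoef) (by norm_num) rep_thirteen
    oneT_eq thirteen_step (by decide +kernel) (by decide +kernel) (by decide +kernel) thirteen_cases hy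

theorem orderOf_seven : orderOf seven = 7 := by
  haveI : Fact (Nat.Prime 7) := ⟨by norm_num⟩
  refine orderOf_eq_prime (pow_eq_one_of_tab rep_seven (by norm_num) oneT_eq seven_step rep_inj) fun h => ?_
  have := rep_seven
  rw [h, map_one] at this
  revert this
  decide +kernel

theorem orderOf_thirteen : orderOf thirteen = 13 := by
  haveI : Fact (Nat.Prime 13) := ⟨by norm_num⟩
  refine orderOf_eq_prime (pow_eq_one_of_tab rep_thirteen (by norm_num) oneT_eq thirteen_step rep_inj) fun h => ?_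
  have := rep_thirteen
  rw [h, map_one] at this
  revert this
  decide +kernel

theorem six_step : ∀ t : Fin 6, castM (sixAll.getD t.val []) * castM (sixAll.getD 1 []) =
    castM (sixAll.getD ((t.val + 1) % 6) []) := by decide +kernel

theorem orderOf_six : orderOf six = 6 := by
  have h6 : orderOf six ∣ 6 :=
    orderOf_dvd_of_pow_eq_one (pow_eq_one_of_tab rep_six (by norm_num) oneT_eq six_step rep_inj)
  have hne : ∀ t, t ≤ 6 → castM (sixAll.getD (t % 6) []) ≠ 1 → orderOf six ≠ t := fun t ht h1 e => by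
    apply h1
    rw [← pow_tab (P := sixAll) (by norm_num) oneT_eq six_step t ht, ← rep_six, ← map_pow, ← e, pow_orderOf_eq_one, map_one]
  have h1 := hne 1 (by norm_num) six_ne.1
  have h2 := hne 2 (by norm_num) six_ne.2.1
  have h3 := hne 3 (by norm_num) six_ne.2.2
  have hm : orderOf six ∈ Nat.divisors 6 := Nat.mem_divisors.2 ⟨h6, by norm_num⟩
  rw [show Nat.divisors 6 = {1, 2, 3, 6} from by decide] at hm
  simp [h1, h2, h3] at hm
  exact hm

end CfsgLib.KnownC.G2Three
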